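import Cfsg.Agent.ClassSize.Basic
import Cfsg.Agent.Chars.Burnside

/-!
# Minimal centralisers in simple groups
-/

set_option autoImplicit false
set_option linter.unusedSectionVars false
set_option linter.style.haveILetI false

namespace Cfsg.Lib.ClassSize.RankThree

open Subgroup Cfsg.Lib.ClassSize

universe u

variable {G : Type u} [Group G] [Finite G]

/-- An element of prime power order for the prime `p`. -/
abbrev PEl (p : ℕ) (x : G) : Prop := ∃ k, orderOf x = p ^ k

/-- No centraliser of a non-identity element is properly contained in that of `x`. -/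
def MinCent (x : G) : Prop := ∀ y : G, y ≠ 1 → cs x ∣ cs y → cs y = cs x

theorem cent_eq_of_le {x y : G} (hle : centralizer ({x} : Set G) ≤ centralizer ({y} : Set G))
    (h : cs x = cs y) : centralizer ({x} : Set G) = centralizer ({y} : Set G) := by
  refine eq_of_le_of_card_ge hle ?_
  have h1 := (centralizer ({x} : Set G)).card_mul_index
  have h2 := (centralizer ({y} : Set G)).card_mul_index
  rw [show (centralizer ({x} : Set G)).index = cs x from rfl, h] at h1
  rw [show (centralizer ({y} : Set G)).index = cs y from rfl, ← h1] at h2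
  exact le_of_eq (Nat.eq_of_mul_eq_mul_right (Nat.pos_of_ne_zero index_ne_zero_of_finite) h2)

theorem exists_part {g : G} (hg : g ≠ 1) :
    ∃ r : ℕ, r.Prime ∧ ∃ u ∈ zpowers g, u ≠ 1 ∧ PEl r u := by
  by_contra hno
  push Not at hno
  refine hg (mem_bot.1 (mem_of_parts (H := ⊥) fun r hr u hu ho => ?_))
  rw [mem_bot]
  by_contra hu1
  obtain ⟨k, hk⟩ := ho
  exact hno r hr u hu hu1 k hk

/-- For a `p`-element with minimal centraliser, the `p'`-elements of the centraliser are central
in it. -/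
theorem central_of_min {x : G} {p : ℕ} (hp : p.Prime) (hx : PEl p x) (hx1 : x ≠ 1)
    (hmin : MinCent x) {y : G} (hy : y ∈ centralizer ({x} : Set G)) (hyp : ¬ p ∣ orderOf y) :
    centralizer ({x} : Set G) ≤ centralizer ({y} : Set G) := by
  obtain ⟨k, hk⟩ := hx
  have hcop : (orderOf x).Coprime (orderOf y) := by
    rw [hk]; exact Nat.Coprime.pow_left k ((hp.coprime_iff_not_dvd).2 hyp)
  have hc : Commute x y := (mem_cent.1 hy).symm
  have he := cent_mul_of_coprime hc hcop
  have hxy : x * y ≠ 1 := by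
    intro e
    have : orderOf x = orderOf y := by
      rw [eq_inv_of_mul_eq_one_left e, orderOf_inv]
    rw [this, Nat.coprime_self] at hcop
    rw [hcop] at this
    exact hx1 (orderOf_eq_one_iff.1 this)
  have hle : centralizer ({x * y} : Set G) ≤ centralizer ({x} : Set G) := he ▸ inf_le_left
  have := cent_eq_of_le hle (hmin (x * y) hxy (index_dvd_of_le hle))
  rw [← this, he]
  exact inf_le_right

theorem comm_cent {x : G} {p : ℕ} (hp : p.Prime) (hx : PEl p x) (hx1 : x ≠ 1) (hmin : MinCent x)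
    {u v : G} (hu : u ∈ centralizer ({x} : Set G)) (hv : v ∈ centralizer ({x} : Set G))
    (hup : ¬ p ∣ orderOf u) : Commute v u :=
  mem_cent.1 (central_of_min hp hx hx1 hmin hu hup hv)

theorem commute_all_of_parts {H : Subgroup G}
    (h : ∀ r : ℕ, r.Prime → ∀ g ∈ H, PEl r g → ∀ w ∈ H, Commute w g) {a b : G} (ha : a ∈ H)
    (hb : b ∈ H) : Commute a b := by
  refine (mem_cent.1 ?_)
  refine mem_of_parts (H := centralizer ({b} : Set G)) fun r hr u hu ho => mem_cent.2 ?_
  exact (h r hr u ((zpowers_le.2 ha) hu) ho b hb).symm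

/-- Two primes force an abelian centraliser. -/
theorem comm_of_two {x u : G} {p q : ℕ} (hp : p.Prime) (hq : q.Prime) (hpq : p ≠ q)
    (hx : PEl p x) (hx1 : x ≠ 1) (hmin : MinCent x) (hu : PEl q u) (hu1 : u ≠ 1)
    (hux : u ∈ centralizer ({x} : Set G)) (hcs : cs u = cs x) :
    ∀ a ∈ centralizer ({x} : Set G), ∀ b ∈ centralizer ({x} : Set G), Commute a b := by
  have hnd : ∀ {r s : ℕ} {w : G}, r.Prime → s.Prime → r ≠ s → PEl r w → ¬ s ∣ orderOf w := by
    rintro r s w hr hs hrs ⟨k, hk⟩ hd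
    rw [hk] at hd
    exact hrs ((Nat.prime_dvd_prime_iff_eq hs hr).1 (hs.dvd_of_dvd_pow hd)).symm
  have hup : ¬ p ∣ orderOf u := hnd hq hp hpq.symm hu
  have heq : centralizer ({x} : Set G) = centralizer ({u} : Set G) :=
    cent_eq_of_le (central_of_min hp hx hx1 hmin hux hup) hcs.symm
  have hminu : MinCent u := fun y hy hd => by rw [hcs] at hd ⊢; exact hmin y hy hd
  intro a ha b hb
  refine commute_all_of_parts (fun r hr g hg ho w hw => ?_) ha hb
  rcases eq_or_ne r p with rfl | hrp
  · rw [heq] at hg hw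
    exact comm_cent hq hu hu1 hminu hg hw (hnd hp hq hpq ho)
  · exact comm_cent hp hx hx1 hmin hg hw (hnd hr hp hrp ho)

/-- A 2-group whose non-identity elements have centralisers of one order is abelian. -/
theorem two_comm {S : Subgroup G} (hS : IsPGroup 2 S)
    (h : ∀ x ∈ S, ∀ y ∈ S, x ≠ 1 → y ≠ 1 → cs x = cs y) : ∀ a ∈ S, ∀ b ∈ S, Commute a b := by
  have hord : ∀ x ∈ S, ∃ k, orderOf x = 2 ^ k := by
    intro x hx
    haveI := Fact.mk Nat.prime_two
    obtain ⟨k, hk⟩ := IsPGroup.iff_orderOf.1 hS ⟨x, hx⟩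
    exact ⟨k, by rwa [Subgroup.orderOf_mk] at hk⟩
  have hpow : ∀ x ∈ S, x ≠ 1 → ∃ i ∈ zpowers x, orderOf i = 2 ∧
      centralizer ({x} : Set G) = centralizer ({i} : Set G) := by
    intro x hx hx1
    obtain ⟨k, hk⟩ := hord x hx
    have hk0 : k ≠ 0 := fun e => hx1 (orderOf_eq_one_iff.1 (by rw [hk, e, pow_zero]))
    have h2 : 2 ∣ orderOf x := hk ▸ dvd_pow_self 2 hk0
    have ho : orderOf (x ^ (orderOf x / 2)) = 2 := orderOf_pow_orderOf_div (orderOf_pos x).ne' h2
    have hm : x ^ (orderOf x / 2) ∈ zpowers x := pow_mem (mem_zpowers x) _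
    exact ⟨_, hm, ho, cent_eq_of_le (cent_le_of_mem_zpowers hm)
      (h x hx _ ((zpowers_le.2 hx) hm) hx1 (fun e => by simp [e] at ho))⟩
  have hinv : ∀ a ∈ S, ∀ b ∈ S, orderOf a = 2 → orderOf b = 2 → Commute a b := by
    intro a ha b hb hoa hob
    have haa : a⁻¹ = a := inv_eq_self_of_orderOf_eq_two hoa
    have hbb : b⁻¹ = b := inv_eq_self_of_orderOf_eq_two hob
    rcases eq_or_ne (a * b) 1 with he | hw
    · rw [eq_inv_of_mul_eq_one_left he]
      exact (Commute.refl b).inv_left
    obtain ⟨i, hi, hoi, hci⟩ := hpow _ (mul_mem ha hb) hw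
    obtain ⟨j, hj⟩ := mem_zpowers_iff.1 hi
    have hai : a * i * a⁻¹ = i := by
      calc a * i * a⁻¹ = MulAut.conj a i := rfl
        _ = (MulAut.conj a (a * b)) ^ j := by rw [← hj, map_zpow]
        _ = ((a * b)⁻¹) ^ j := by
            congr 1
            rw [MulAut.conj_apply, mul_inv_rev, hbb, haa]
            rw [← mul_assoc, show a * a = 1 by nth_rw 1 [← haa]; exact inv_mul_cancel a, one_mul]
        _ = i⁻¹ := by rw [inv_zpow, hj]
        _ = i := inv_eq_self_of_orderOf_eq_two hoi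
    have hm : a ∈ centralizer ({i} : Set G) := mem_cent.2 (mul_inv_eq_iff_eq_mul.1 hai)
    rw [← hci] at hm
    have hc : a * (a * b) = (a * b) * a := (mem_cent.1 hm).eq
    rw [mul_assoc a b a] at hc
    exact mul_left_cancel hc
  intro a ha b hb
  rcases eq_or_ne a 1 with rfl | ha1
  · exact Commute.one_left b
  rcases eq_or_ne b 1 with rfl | hb1
  · exact Commute.one_right a
  obtain ⟨i, hi, hoi, hci⟩ := hpow a ha ha1
  obtain ⟨j, hj, hoj, hcj⟩ := hpow b hb hb1
  have h1 : j ∈ centralizer ({i} : Set G) :=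
    mem_cent.2 (hinv _ ((zpowers_le.2 hb) hj) _ ((zpowers_le.2 ha) hi) hoj hoi)
  rw [← hci] at h1
  have h2 : a ∈ centralizer ({j} : Set G) := mem_cent_comm.1 h1
  rw [← hcj] at h2
  exact mem_cent.1 h2

end Cfsg.Lib.ClassSize.RankThree
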