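import Cfsg.Agent.Chars.AbelianTIExc
import Cfsg.Agent.Chars.Perm
import Cfsg.Agent.Chars.Burnside
import Cfsg.Agent.Chars.DegreeTools
import Cfsg.Agent.Chars.Gallagher
import Cfsg.Agent.ClassSize.Basic

/-!
# A factorisation of a simple group by a self-centralising abelian Hall subgroup and a centraliser

If `A` is abelian, the centraliser of each of its non-identity elements, and the centraliser `B`
of `z` has index `|A|` and order prime to `|A|`, then `z` commutes with none of its other
conjugates: the constituents of the permutation character on `G/B` have degree prime to `|A|`,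
so they vanish at `z`.
-/

set_option autoImplicit false
set_option linter.unusedSectionVars false
set_option linter.style.haveILetI false

namespace Cfsg.Lib.ClassSize.RankThree

open scoped ComplexConjugate
open Cfsg.Lib.Chars Cfsg.Lib.Chars.StarTI Cfsg.Lib.Chars.StarSylow Cfsg.Lib.Dual Cfsg.Lib.ClassSize
open Module

universe u

variable {G : Type u} [Group G]

/-- In a nonabelian simple group a nontrivial irreducible character is nowhere scalar. -/
theorem norm_ne_deg [Fintype G] [IsSimpleGroup G] (χ : Cfsg.IrrCharacter G) (hχ : χ ≠ principal G)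
    {g : G} (hg : g ∉ Subgroup.center G) : ‖(χ : G → ℂ) g‖ ≠ ((χ : G → ℂ) 1).re := by
  classical
  intro hnorm
  obtain ⟨n, ρ, hρ, hchar⟩ := χ.2
  rw [← hchar, ρ.char_one, Complex.natCast_re] at hnorm
  obtain ⟨ω, hω, -⟩ := scalar_of_norm_character_eq ρ g hnorm
  have hker : ρ.ker = ⊥ := by
    refine (IsSimpleGroup.eq_bot_or_eq_top_of_normal ρ.ker inferInstance).resolve_right fun h => ?_
    apply hχ
    have htriv : ∀ x, ρ x = 1 := fun x => by
      have : x ∈ ρ.ker := h ▸ Subgroup.mem_top x
      exact this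
    refine Subtype.ext (StarSylow.eq_one_of_const (φ := χ) fun x => ?_)
    rw [← hchar, Representation.character, Representation.character, htriv, htriv]
  apply hg
  rw [Subgroup.mem_center_iff]
  intro x
  apply (MonoidHom.ker_eq_bot_iff ρ).mp hker
  rw [map_mul, map_mul, hω]
  ext v
  simp

variable [Finite G]

theorem isolated_of_factor [IsSimpleGroup G] {A : Subgroup G}
    (hC : ∀ a ∈ A, a ≠ 1 → Subgroup.centralizer ({a} : Set G) = A) {z : G}
    (hz : z ∉ Subgroup.center G) (hindex : cs z = Nat.card A)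
    (hcop : (Nat.card A).Coprime (Nat.card (Subgroup.centralizer ({z} : Set G)))) :
    ∀ g : G, Commute z (g * z * g⁻¹) → g * z * g⁻¹ = z := by
  classical
  haveI : Fintype G := Fintype.ofFinite G
  haveI : Fintype A := Fintype.ofFinite A
  set N := Subgroup.normalizer (A : Set G) with hN
  haveI : Fintype N := Fintype.ofFinite N
  haveI : Fintype (A →* ℂˣ) := Fintype.ofFinite _
  have h : Setting A A N := Cfsg.Lib.Chars.AbelianTI.setting hC
  have hcomm : ∀ a b : A, a * b = b * a := fun a b => Subtype.ext (h.central a a.2 b b.2)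
  set B := Subgroup.centralizer ({z} : Set G) with hB
  have hA1 : 1 < Nat.card A := by
    rw [← hindex]
    exact Nat.one_lt_iff_ne_zero_and_ne_one.2
      ⟨Subgroup.index_ne_zero_of_finite, fun e => hz (cs_eq_one_iff.1 e)⟩
  have hA0 : (Nat.card A : ℂ) ≠ 0 := by exact_mod_cast Nat.card_pos.ne'
  set π := permChar G (G ⧸ B) with hπ
  have hπc : Cfsg.IsCharacter G π := isCharacter_permChar _
  -- the permutation character is regular on `A`
  have hπ1 : π 1 = (Nat.card A : ℂ) := by
    simp only [hπ, permChar]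
    rw [← hindex, cs, Subgroup.index]
    congr 1
    exact Nat.card_congr ((Equiv.setCongr (Set.eq_univ_of_forall fun q => by simp)).trans
      (Equiv.Set.univ _))
  have hπA : ∀ a ∈ A, a ≠ 1 → π a = 0 := by
    intro a ha ha1
    simp only [hπ, permChar]
    rw [Nat.cast_eq_zero, Nat.card_eq_zero]
    left
    refine ⟨fun ⟨q, hq⟩ => ?_⟩
    obtain ⟨g, rfl⟩ := QuotientGroup.mk_surjective q
    rw [MulAction.mem_fixedBy] at hq
    have hm : g⁻¹ * a * g ∈ B := by
      have := QuotientGroup.eq.1 hq.symm
      simpa [mul_assoc] using this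
    refine ha1 ?_
    have h1 : orderOf a ∣ Nat.card A := Subgroup.orderOf_dvd_natCard A ha
    have h2 : orderOf a ∣ Nat.card B := by
      have := Subgroup.orderOf_dvd_natCard B hm
      rwa [show g⁻¹ * a * g = MulAut.conj g⁻¹ a by simp, MulEquiv.orderOf_eq] at this
    exact orderOf_eq_one_iff.1 (Nat.eq_one_of_dvd_coprimes hcop h1 h2)
  have hπres : ∀ α : A →* ℂˣ, Cfsg.classInner (fun a : A => π a) (ev α) = 1 := by
    intro α
    rw [classInner_def, Finset.sum_eq_single (1 : A)]
    · rw [OneMemClass.coe_one, hπ1]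
      simp [ev]
    · intro a _ ha
      rw [hπA a a.2 (fun e => ha (Subtype.ext e)), zero_mul]
    · intro h; exact absurd (Finset.mem_univ _) h
  obtain ⟨c, hcdec, hcinner, -⟩ := exists_degree_decomp hπc
  -- multiplicities in the restrictions
  have hMnat : ∀ (χ : Cfsg.IrrCharacter G) (α : A →* ℂˣ),
      ∃ k : ℕ, Cfsg.classInner (fun a : A => (χ : G → ℂ) a) (ev α) = k := fun χ α =>
    classInner_char_nat (IsCharacter.restrict (isCharacter_of_irr χ.2) A)
      (isCharacter_of_irr (isIrr_ev α))
  choose m hm using hMnat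
  have hsum : ∀ α, ∑ χ, c χ * m χ α = 1 := by
    intro α
    apply Nat.cast_injective (R := ℂ)
    push_cast
    rw [← hπres α, classInner_def]
    simp only [← hm, classInner_def]
    rw [Finset.sum_congr rfl fun χ _ => mul_left_comm ((c χ : ℕ) : ℂ) _ _, ← Finset.mul_sum]
    congr 1
    rw [Finset.sum_congr rfl fun χ _ => Finset.mul_sum _ _ _, Finset.sum_comm]
    refine Finset.sum_congr rfl fun a _ => ?_
    rw [congrFun hcdec (a : G), Finset.sum_mul]
    exact Finset.sum_congr rfl fun χ _ => (mul_assoc _ _ _).symm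
  have hdeg : ∀ χ : Cfsg.IrrCharacter G, deg (χ : G → ℂ) = ∑ α, m χ α := by
    intro χ
    apply Nat.cast_injective (R := ℂ)
    push_cast
    have he := expand hcomm (fun a : A => (χ : G → ℂ) a) 1
    simp only [OneMemClass.coe_one, irr_apply_one_eq_deg, hm, ev, map_one, Units.val_one, mul_one] at he
    exact he
  have hp : c (principal G) = 1 := by
    apply Nat.cast_injective (R := ℂ)
    rw [← hcinner, show ((principal G : Cfsg.IrrCharacter G) : G → ℂ) = fun _ => 1 from rfl, hπ,
      classInner_permChar_one]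
    haveI : Subsingleton (MulAction.orbitRel.Quotient G (G ⧸ B)) :=
      (MulAction.pretransitive_iff_subsingleton_quotient G (G ⧸ B)).1 inferInstance
    haveI : Nonempty (MulAction.orbitRel.Quotient G (G ⧸ B)) := ⟨Quotient.mk'' ((1 : G) : G ⧸ B)⟩
    rw [Nat.card_eq_one_iff_unique.2 ⟨inferInstance, inferInstance⟩]
  have hpm : m (principal G) 1 = 1 := by
    apply Nat.cast_injective (R := ℂ)
    rw [← hm, classInner_def]
    simp [principal, ev, Nat.card_eq_fintype_card]
  -- the nontrivial constituents
  have hone : ∀ χ : Cfsg.IrrCharacter G, χ ≠ principal G → c χ * m χ 1 = 0 := by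
    intro χ hχ
    have h1 := hsum 1
    rw [← Finset.add_sum_erase _ _ (Finset.mem_univ (principal G)), hp, hpm, one_mul] at h1
    have h2 : ∑ ψ ∈ Finset.univ.erase (principal G), c ψ * m ψ 1 = 0 := by omega
    exact (Finset.sum_eq_zero_iff).1 h2 χ (Finset.mem_erase.2 ⟨hχ, Finset.mem_univ _⟩)
  have hle : ∀ χ α, c χ * m χ α ≤ 1 := fun χ α =>
    le_of_le_of_eq (Finset.single_le_sum (f := fun χ => c χ * m χ α) (fun _ _ => Nat.zero_le _)
      (Finset.mem_univ χ)) (hsum α)
  have huniq : ∀ χ χ' α, c χ * m χ α ≠ 0 → c χ' * m χ' α ≠ 0 → χ = χ' := by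
    intro χ χ' α h1 h2
    by_contra hne
    have h3 := hsum α
    rw [← Finset.add_sum_erase _ _ (Finset.mem_univ χ),
      ← Finset.add_sum_erase _ _ (Finset.mem_erase.2 ⟨fun e => hne e.symm, Finset.mem_univ χ'⟩)] at h3
    omega
  have hact : ∀ χ α (n : N), m χ (act h n α) = m χ α := by
    intro χ α n
    apply Nat.cast_injective (R := ℂ)
    rw [← hm, ← hm]
    exact inner_res_cnj h n (isClassFunction_irr χ) (ev α)
  have hdegcop : ∀ χ : Cfsg.IrrCharacter G, χ ≠ principal G → c χ ≠ 0 →
      (deg (χ : G → ℂ)).Coprime (Nat.card A) := by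
    intro χ hχ hc
    have hm1 : ∀ χ : Cfsg.IrrCharacter G, χ ≠ principal G → c χ ≠ 0 → m χ 1 = 0 := fun χ hχ hc =>
      (Nat.mul_eq_zero.1 (hone χ hχ)).resolve_left hc
    have hex : ∀ χ : Cfsg.IrrCharacter G, ∃ α, m χ α ≠ 0 := by
      intro χ
      by_contra hno
      push Not at hno
      have := deg_irr_pos χ
      rw [hdeg, Finset.sum_eq_zero fun α _ => hno α] at this
      exact absurd this (lt_irrefl 0)
    by_cases hsingle : ∃ χ' : Cfsg.IrrCharacter G, χ' ≠ χ ∧ χ' ≠ principal G ∧ c χ' ≠ 0
    · obtain ⟨χ', hne, hχ', hc'⟩ := hsingle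
      obtain ⟨α, hα⟩ := hex χ
      obtain ⟨α', hα'⟩ := hex χ'
      have hα1 : α ≠ 1 := fun e => hα (e ▸ hm1 χ hχ hc)
      have hα'1 : α' ≠ 1 := fun e => hα' (e ▸ hm1 χ' hχ' hc')
      have hone_of : ∀ {ψ : Cfsg.IrrCharacter G} {β}, c ψ ≠ 0 → m ψ β ≠ 0 → m ψ β = 1 := by
        intro ψ β hcψ hβ
        have h1 := hle ψ β
        rcases Nat.lt_or_ge 1 (m ψ β) with hlt | hge
        · have : 1 * 2 ≤ c ψ * m ψ β := Nat.mul_le_mul (by omega) (by omega)
          omega
        · omega
      -- the supports are disjoint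
      have hdisj : ∀ {β}, m χ β ≠ 0 → m χ' β = 0 := fun {β} hβ => by
        by_contra hβ'
        exact hne (huniq χ' χ β (Nat.mul_ne_zero hc' hβ') (Nat.mul_ne_zero hc hβ))
      have hcentev : ∀ β : A →* ℂˣ, Cent h (ev β) β := fun β y a => by
        show (β ((⟨y, h.le y.2⟩ : A) * a) : ℂ) = (β y : ℂ) * (β a : ℂ)
        rw [map_mul, Units.val_mul]
      have hoff : ∀ β γ : A →* ℂˣ, Off A A (ev β - ev γ) := fun β γ a ha => by
        rw [Subgroup.subgroupOf_self, Subgroup.index_top, pow_one] at ha
        subst ha; simp [ev]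
      have hpair : ∀ β γ : A →* ℂˣ, β ≠ 1 → γ ≠ 1 → Apart h β γ →
          ∃ μ ν : Cfsg.IrrCharacter G, μ ≠ ν ∧ ∀ ψ : Cfsg.IrrCharacter G,
            (m ψ β : ℂ) - m ψ γ = (if μ = ψ then 1 else 0) - if ν = ψ then 1 else 0 := by
        intro β γ hβ hγ hap
        obtain ⟨μ, ν, hμν, hf⟩ := exists_sub_of_norm_two
          (IsGeneralizedCharacter.indFun (H := A) (θ := ev β - ev γ)
            ⟨_, _, isCharacter_of_irr (isIrr_ev β), isCharacter_of_irr (isIrr_ev γ), rfl⟩)
          (norm_ind_pair h (isIrr_ev β) (isIrr_ev γ) (hcentev β) (hcentev γ) hβ hγ hap (hoff β γ))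
          (by rw [indFun_one]; simp [ev])
        refine ⟨μ, ν, hμν, fun ψ => ?_⟩
        have h1 := frobenius_reciprocity A (ev β - ev γ) (isClassFunction_irr ψ)
        rw [hf, classInner_sub_left, classInner_sub_left, classInner_irrCharacter,
          classInner_irrCharacter, ← classInner_conj_symm (fun a : A => (ψ : G → ℂ) a) (ev β),
          ← classInner_conj_symm (fun a : A => (ψ : G → ℂ) a) (ev γ),
          hm, hm, map_natCast, map_natCast] at h1
        exact h1.symm
      have hap : ∀ {β}, m χ β ≠ 0 → Apart h β α' := fun {β} hβ n e => by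
        have := hdisj hβ
        rw [← e, hact] at this
        exact hα' this
      have hsupp : ∀ β, m χ β ≠ 0 → β ∈ orb h α := by
        intro β hβ
        by_contra hno
        have hβ1 : β ≠ 1 := fun e => hβ (e ▸ hm1 χ hχ hc)
        have key : ∀ {γ}, m χ γ ≠ 0 → ∀ ψ : Cfsg.IrrCharacter G, (m ψ γ : ℂ) - m ψ α' =
            (if χ = ψ then 1 else 0) - if χ' = ψ then 1 else 0 := by
          intro γ hγ ψ
          obtain ⟨μ, ν, hμν, hval⟩ := hpair γ α' (fun e => hγ (e ▸ hm1 χ hχ hc)) hα'1 (hap hγ)
          have hdχ := hval χ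
          have hdχ' := hval χ'
          have hα'χ : m χ α' = 0 := by
            by_contra hx
            exact hα' (hdisj hx)
          rw [hone_of hc hγ, hα'χ] at hdχ
          rw [hdisj hγ, hone_of hc' hα'] at hdχ'
          have e1 : μ = χ := by
            by_contra hx
            rw [if_neg hx] at hdχ
            split_ifs at hdχ <;> norm_num at hdχ
          have e2 : ν = χ' := by
            by_contra hx
            rw [if_neg hx] at hdχ'
            split_ifs at hdχ' <;> norm_num at hdχ'
          rw [hval ψ, e1, e2]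
        have hab : Apart h α β := fun n e => hno ((mem_orb h).2 ⟨n⁻¹, by
          rw [← e, act_act, mul_inv_cancel, act_one_elt]⟩)
        obtain ⟨μ, ν, hμν, hval⟩ := hpair α β hα1 hβ1 hab
        have h0 := hval μ
        rw [if_pos rfl, if_neg (fun e => hμν e.symm)] at h0
        have : (m μ α : ℂ) - m μ β = 0 := by linear_combination key hα μ - key hβ μ
        rw [this] at h0
        norm_num at h0
      rw [hdeg, ← Finset.sum_subset (Finset.subset_univ (orb h α))
        fun β _ hβ => by by_contra hx; exact hβ (hsupp β hx),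
        Finset.sum_congr rfl (g := fun _ => 1) fun β hβ => by
          obtain ⟨n, rfl⟩ := (mem_orb h).1 hβ
          rw [hact]; exact hone_of hc hα,
        ← Finset.card_eq_sum_ones, card_orb h hα1]
      have hN : Nat.card A * (A.subgroupOf N).index = Nat.card N := by
        rw [← (A.subgroupOf N).card_mul_index,
          Nat.card_congr (Subgroup.subgroupOfEquivOfLe h.cle).toEquiv]
      have hG : Nat.card N ∣ Nat.card A * Nat.card B := by
        rw [← hindex, cs, mul_comm, Subgroup.card_mul_index]
        exact Subgroup.card_subgroup_dvd_card _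
      rw [← hN] at hG
      exact (Nat.Coprime.coprime_dvd_right (Nat.dvd_of_mul_dvd_mul_left Nat.card_pos hG) hcop).symm
    · push Not at hsingle
      have hall : ∀ α : A →* ℂˣ, α ≠ 1 → c χ * m χ α + m (principal G) α = 1 := by
        intro α _
        have h1 := hsum α
        rw [← Finset.add_sum_erase _ _ (Finset.mem_univ (principal G)),
          Finset.sum_eq_single χ (fun ψ hψ hne => by
            rw [hsingle ψ hne (Finset.mem_erase.1 hψ).1, zero_mul])
            (fun hn => absurd (Finset.mem_erase.2 ⟨hχ, Finset.mem_univ _⟩) hn), hp, one_mul] at h1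
        omega
      have hpzero : ∀ α : A →* ℂˣ, α ≠ 1 → m (principal G) α = 0 := by
        intro α hα
        apply Nat.cast_injective (R := ℂ)
        rw [← hm, show (fun a : A => ((principal G : Cfsg.IrrCharacter G) : G → ℂ) a) = ev 1 from
          funext fun a => by simp [principal, ev], classInner_ev, if_neg (Ne.symm hα), Nat.cast_zero]
      have hd : deg (χ : G → ℂ) = Nat.card A - 1 := by
        rw [hdeg, ← Finset.add_sum_erase _ _ (Finset.mem_univ (1 : A →* ℂˣ)), hm1 χ hχ hc, zero_add,
          Finset.sum_congr rfl (g := fun _ => 1) fun α hα => by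
            have h1 := hall α (Finset.mem_erase.1 hα).1
            rw [hpzero α (Finset.mem_erase.1 hα).1, add_zero] at h1
            exact Nat.eq_one_of_mul_eq_one_left h1,
          ← Finset.card_eq_sum_ones, Finset.card_erase_of_mem (Finset.mem_univ _), Finset.card_univ,
          ← Nat.card_eq_fintype_card, card_hom hcomm]
      rw [hd]
      exact ((Nat.coprime_self_sub_left hA1.le).2 (Nat.coprime_one_left _))
  have hπz : π z = 1 := by
    rw [congrFun hcdec z, Finset.sum_eq_single (principal G)]
    · rw [hp]; simp [principal]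
    · intro χ _ hχ
      by_cases hc : c χ = 0
      · rw [hc, Nat.cast_zero, zero_mul]
      rcases burnside_zero_or_max χ.2 z (by
        rw [show Nat.card {x : G // IsConj z x} = cs z from ?_, hindex]
        · exact hdegcop χ hχ hc
        · rw [← card_cls]
          exact Nat.card_congr (Equiv.subtypeEquivRight fun x => by
            simp only [isConj_iff, cls, Set.mem_range])) with h0 | h0
      · rw [h0, mul_zero]
      · exact absurd h0 (norm_ne_deg χ hχ hz)
    · intro hn; exact absurd (Finset.mem_univ _) hn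
  intro g hg
  simp only [hπ, permChar] at hπz
  have hone' : Nat.card (MulAction.fixedBy (G ⧸ B) z) = 1 := by exact_mod_cast hπz
  have hzB : z ∈ B := mem_cent.2 (Commute.refl z)
  have hz1 : (((1 : G) : G ⧸ B)) ∈ MulAction.fixedBy (G ⧸ B) z := by
    show ((z * 1 : G) : G ⧸ B) = ((1 : G) : G ⧸ B)
    exact QuotientGroup.eq.2 (by simpa using inv_mem hzB)
  have hzg : ((g : G) : G ⧸ B) ∈ MulAction.fixedBy (G ⧸ B) z := by
    show ((z * g : G) : G ⧸ B) = (g : G ⧸ B)
    refine QuotientGroup.eq.2 ?_
    have e : (z * g)⁻¹ * g = (g⁻¹ * z * g)⁻¹ := by group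
    rw [e]
    refine inv_mem (mem_cent.2 ?_)
    have := congrArg (fun t => g⁻¹ * t * g) hg.eq
    simp only [mul_assoc, inv_mul_cancel_left, inv_mul_cancel, mul_one] at this
    show g⁻¹ * z * g * z = z * (g⁻¹ * z * g)
    simpa [mul_assoc] using this
  have hgB : g ∈ B := by
    have := congrArg Subtype.val
      ((Nat.card_eq_one_iff_unique.1 hone').1.elim ⟨_, hz1⟩ ⟨_, hzg⟩)
    simpa using QuotientGroup.eq.1 this
  rw [(mem_cent.1 hgB).eq, mul_inv_cancel_right]

end Cfsg.Lib.ClassSize.RankThree
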