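import Cfsg.Agent.ClassSize.RankThree.Basic
import Cfsg.Agent.ClassSize.RankThree.Char
import Cfsg.Agent.InvolCalc.ZStarApps

/-!
# Simple groups with three class sizes have abelian involution centralisers
-/

set_option autoImplicit false
set_option linter.unusedSectionVars false
set_option linter.style.haveILetI false

namespace Cfsg.Lib.ClassSize.RankThree

open Subgroup Cfsg.Lib.ClassSize

universe u

variable {G : Type u} [Group G] [Finite G] [IsSimpleGroup G]

theorem center_bot (hna : ¬ IsMulCommutative G) : center G = ⊥ :=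
  (IsSimpleGroup.eq_bot_or_eq_top_of_normal (center G) inferInstance).resolve_right fun h =>
    hna ⟨⟨fun a b => (Subgroup.mem_center_iff.1 (h ▸ mem_top b) a)⟩⟩

theorem not_prime_pow (hna : ¬ IsMulCommutative G) {x : G} (hx : x ≠ 1) {p k : ℕ} (hp : p.Prime) :
    cs x ≠ p ^ k := by
  intro h
  have hc : Nat.card {y : G // IsConj x y} = p ^ k := by
    rw [← h, ← card_cls]
    exact Nat.card_congr (Equiv.subtypeEquivRight fun y => by
      simp only [isConj_iff, cls, Set.mem_range])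
  have hpr := Cfsg.Lib.Chars.prime_card_of_class_prime_pow p k hp x hx hc
  haveI : Fact (Nat.card G).Prime := ⟨hpr⟩
  haveI : IsCyclic G := isCyclic_of_prime_card rfl
  exact hna ⟨⟨fun a b => (IsCyclic.commGroup (α := G)).mul_comm a b⟩⟩

theorem exists_central_pel {p : ℕ} (hp : p.Prime) (hd : p ∣ Nat.card G) :
    ∃ x : G, x ≠ 1 ∧ PEl p x ∧ ¬ p ∣ cs x := by
  haveI := Fact.mk hp
  obtain ⟨P⟩ : Nonempty (Sylow p G) := inferInstance
  have hne : (P : Subgroup G) ≠ ⊥ := fun h => by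
    have := P.not_dvd_index
    rw [h, index_bot] at this
    exact this hd
  haveI : Nontrivial (P : Subgroup G) := (nontrivial_iff_ne_bot _).2 hne
  haveI := P.2.center_nontrivial
  obtain ⟨⟨⟨x, hxP⟩, hxc⟩, hx1⟩ := exists_ne (1 : center (P : Subgroup G))
  have hx : x ≠ 1 := fun e => hx1 (Subtype.ext (Subtype.ext e))
  refine ⟨x, hx, ?_, fun h => P.not_dvd_index (h.trans (index_dvd_of_le fun y hy => mem_cent.2 ?_))⟩
  · obtain ⟨k, hk⟩ := IsPGroup.iff_orderOf.1 P.2 ⟨x, hxP⟩
    exact ⟨k, by rwa [Subgroup.orderOf_mk] at hk⟩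
  · exact congrArg Subtype.val (Subgroup.mem_center_iff.1 hxc ⟨y, hy⟩)

theorem exists_two_pow {x : G} (hx : PEl 2 x) (hx1 : x ≠ 1) : ∃ i ∈ zpowers x, orderOf i = 2 := by
  obtain ⟨k, hk⟩ := hx
  have hk0 : k ≠ 0 := fun e => hx1 (orderOf_eq_one_iff.1 (by rw [hk, e, pow_zero]))
  exact ⟨_, pow_mem (mem_zpowers x) _,
    orderOf_pow_orderOf_div (orderOf_pos x).ne' (hk ▸ dvd_pow_self 2 hk0)⟩

theorem not_pel_of_ne {p q : ℕ} (hp : p.Prime) (hq : q.Prime) (hpq : p ≠ q) {x : G} (hx : PEl p x) :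
    ¬ q ∣ orderOf x := by
  obtain ⟨k, hk⟩ := hx
  intro hd
  rw [hk] at hd
  exact hpq ((Nat.prime_dvd_prime_iff_eq hq hp).1 (hq.dvd_of_dvd_pow hd)).symm

theorem cs_eq_of_cs_eq_card {x y : G} (h : Nat.card (centralizer ({x} : Set G)) =
    Nat.card (centralizer ({y} : Set G))) : cs x = cs y := by
  have h1 := (centralizer ({x} : Set G)).card_mul_index
  rw [h, ← (centralizer ({y} : Set G)).card_mul_index] at h1
  exact Nat.eq_of_mul_eq_mul_left Nat.card_pos h1

/-- A minimal centraliser of a `p`-element with abelian Sylow `p`-subgroup is abelian. -/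
theorem comm_of_abelian_sylow {x : G} {p : ℕ} (hp : p.Prime) (hx : PEl p x) (hx1 : x ≠ 1)
    (hmin : MinCent x)
    (hab : ∀ Q : Subgroup G, IsPGroup p Q → ∀ a ∈ Q, ∀ b ∈ Q, Commute a b) :
    ∀ a ∈ centralizer ({x} : Set G), ∀ b ∈ centralizer ({x} : Set G), Commute a b := by
  haveI := Fact.mk hp
  set H := centralizer ({x} : Set G) with hH
  obtain ⟨P⟩ : Nonempty (Sylow p H) := inferInstance
  set Z := center H with hZ
  have hcomm : ∀ a ∈ (P : Subgroup H) ⊔ Z, ∀ b ∈ (P : Subgroup H) ⊔ Z, a * b = b * a := by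
    intro a ha b hb
    haveI : Z.Normal := by rw [hZ]; infer_instance
    rw [mem_sup_of_normal_right] at ha hb
    obtain ⟨a₁, ha₁, a₂, ha₂, rfl⟩ := ha
    obtain ⟨b₁, hb₁, b₂, hb₂, rfl⟩ := hb
    have h1 : Commute a₁ b₁ := Subtype.ext
      (hab ((P : Subgroup H).map H.subtype) (P.2.map _) a₁ (mem_map_of_mem _ ha₁) b₁
        (mem_map_of_mem _ hb₁)).eq
    have hza : ∀ w, Commute a₂ w := fun w => ((Subgroup.mem_center_iff.1 ha₂) w).symm
    have hzb : ∀ w, Commute w b₂ := fun w => (Subgroup.mem_center_iff.1 hb₂) w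
    exact ((h1.mul_right (hzb a₁)).mul_left (hza _)).eq
  have htop : (P : Subgroup H) ⊔ Z = ⊤ := by
    refine index_eq_one.1 (Nat.eq_one_iff_not_exists_prime_dvd.2 fun r hr hd => ?_)
    rcases eq_or_ne r p with rfl | hrp
    · exact P.not_dvd_index (hd.trans (index_dvd_of_le le_sup_left))
    · haveI := Fact.mk hr
      obtain ⟨R⟩ : Nonempty (Sylow r H) := inferInstance
      refine R.not_dvd_index (hd.trans (index_dvd_of_le fun w hw => mem_sup_right ?_))
      rw [hZ, Subgroup.mem_center_iff]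
      intro v
      obtain ⟨k, hk⟩ := IsPGroup.iff_orderOf.1 R.2 ⟨w, hw⟩
      rw [Subgroup.orderOf_mk] at hk
      refine Subtype.ext (comm_cent (G := G) hp hx hx1 hmin w.2 v.2 ?_).eq
      exact not_pel_of_ne hr hp hrp ⟨k, by rw [Subgroup.orderOf_coe]; exact hk⟩
  intro a ha b hb
  exact congrArg Subtype.val (hcomm ⟨a, ha⟩ (htop ▸ mem_top _) ⟨b, hb⟩ (htop ▸ mem_top _))

/-- All class sizes incomparable. -/
theorem comm_of_antichain (hanti : ∀ x y : G, x ≠ 1 → y ≠ 1 → cs x ∣ cs y → cs x = cs y)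
    {t : G} (ht : orderOf t = 2) :
    ∀ a ∈ centralizer ({t} : Set G), ∀ b ∈ centralizer ({t} : Set G), Commute a b := by
  haveI := Fact.mk Nat.prime_two
  have hmin : ∀ x : G, x ≠ 1 → MinCent x := fun x hx y hy hd => (hanti x y hx hy hd).symm
  -- a minimal centraliser of a 2-element is abelian or a 2-group
  have key : ∀ x : G, PEl 2 x → x ≠ 1 →
      (∀ a ∈ centralizer ({x} : Set G), ∀ b ∈ centralizer ({x} : Set G), Commute a b) ∨
      IsPGroup 2 (centralizer ({x} : Set G)) := by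
    intro x hx hx1
    by_cases h : ∃ r : ℕ, r.Prime ∧ r ≠ 2 ∧ r ∣ Nat.card (centralizer ({x} : Set G))
    · obtain ⟨r, hr, hr2, hd⟩ := h
      haveI := Fact.mk hr
      obtain ⟨⟨u, hu⟩, ho⟩ := exists_prime_orderOf_dvd_card' r hd
      rw [Subgroup.orderOf_mk] at ho
      have hu1 : u ≠ 1 := fun e => hr.ne_one (by rw [← ho, e, orderOf_one])
      have hle := central_of_min Nat.prime_two hx hx1 (hmin x hx1) hu
        (not_pel_of_ne hr Nat.prime_two hr2 ⟨1, by rw [ho, pow_one]⟩)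
      exact .inl (comm_of_two Nat.prime_two hr hr2.symm hx hx1 (hmin x hx1)
        ⟨1, by rw [ho, pow_one]⟩ hu1 hu (hanti u x hu1 hx1 (index_dvd_of_le hle)))
    · push Not at h
      exact .inr (IsPGroup.iff_card.2 ⟨_, Nat.eq_prime_pow_of_unique_prime_dvd Nat.card_pos.ne'
        fun {r} hr hd => by by_contra hne; exact h r hr hne hd⟩)
  have ht1 : t ≠ 1 := fun e => by simp [e] at ht
  refine (key t ⟨1, by rw [ht, pow_one]⟩ ht1).elim id fun h2 => ?_
  obtain ⟨S, hS⟩ := h2.exists_le_sylow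
  suffices hab : ∀ a ∈ (S : Subgroup G), ∀ b ∈ (S : Subgroup G), Commute a b from
    fun a ha b hb => hab a (hS ha) b (hS hb)
  have htS : t ∈ (S : Subgroup G) := hS (mem_cent.2 (Commute.refl t))
  haveI : Nontrivial (S : Subgroup G) := ⟨⟨⟨t, htS⟩, 1, fun e => ht1 (congrArg Subtype.val e)⟩⟩
  haveI := S.2.center_nontrivial
  obtain ⟨⟨⟨z, hzS⟩, hzc⟩, hz1'⟩ := exists_ne (1 : center (S : Subgroup G))
  have hz1 : z ≠ 1 := fun e => hz1' (Subtype.ext (Subtype.ext e))
  have hSz : (S : Subgroup G) ≤ centralizer ({z} : Set G) := fun y hy =>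
    mem_cent.2 (congrArg Subtype.val (Subgroup.mem_center_iff.1 hzc ⟨y, hy⟩))
  have hpel : ∀ x ∈ (S : Subgroup G), PEl 2 x := fun x hx => by
    obtain ⟨k, hk⟩ := IsPGroup.iff_orderOf.1 S.2 ⟨x, hx⟩
    exact ⟨k, by rwa [Subgroup.orderOf_mk] at hk⟩
  rcases key z (hpel z hzS) hz1 with hzab | hz2
  · exact fun a ha b hb => hzab a (hSz ha) b (hSz hb)
  have hCz : centralizer ({z} : Set G) = (S : Subgroup G) := S.3 hz2 hSz
  by_contra hab
  push Not at hab
  obtain ⟨a, ha, b, hb, hab⟩ := hab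
  refine hab (two_comm S.2 (fun x hx y hy hx1 hy1 => ?_) a ha b hb)
  suffices h : ∀ w ∈ (S : Subgroup G), w ≠ 1 → cs z = cs w from (h x hx hx1).symm.trans (h y hy hy1)
  intro w hw hw1
  rcases key w (hpel w hw) hw1 with hwab | hw2
  · refine hanti z w hz1 hw1 (index_dvd_of_le fun v hv => mem_cent.2 ?_)
    exact hwab v hv z (mem_cent_comm.1 (hSz hw))
  · obtain ⟨T, hT⟩ := hw2.exists_le_sylow
    refine hanti z w hz1 hw1 ?_
    have : cs z = (T : Subgroup G).index := by
      rw [cs, hCz]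
      have h1 := (T : Subgroup G).card_mul_index
      rw [T.card_eq_multiplicity, ← S.card_eq_multiplicity, ← (S : Subgroup G).card_mul_index] at h1
      exact (Nat.eq_of_mul_eq_mul_left Nat.card_pos h1).symm
    rw [this]
    exact index_dvd_of_le hT

/-- Two class sizes dividing one another. -/
theorem comm_of_comparable (hna : ¬ IsMulCommutative G) (heven : 2 ∣ Nat.card G) {a b c : ℕ}
    (hN : ∀ y : G, y ≠ 1 → cs y = a ∨ cs y = b ∨ cs y = c)
    (hab : a ∣ b) (hne : a ≠ b) (hea : ∃ x : G, x ≠ 1 ∧ cs x = a) (heb : ∃ x : G, x ≠ 1 ∧ cs x = b)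
    (hec : ∃ x : G, x ≠ 1 ∧ cs x = c)
    {t : G} (ht : orderOf t = 2) :
    ∀ u ∈ centralizer ({t} : Set G), ∀ v ∈ centralizer ({t} : Set G), Commute u v := by
  haveI := Fact.mk Nat.prime_two
  have hcen := center_bot (G := G) hna
  have hgt : ∀ y : G, y ≠ 1 → 1 < cs y := fun y hy => Nat.one_lt_iff_ne_zero_and_ne_one.2
    ⟨index_ne_zero_of_finite, fun e => hy (mem_bot.1 (hcen ▸ cs_eq_one_iff.1 e))⟩
  obtain ⟨xa, hxa1, hxa⟩ := hea
  obtain ⟨xc, hxc1, hxc⟩ := hec
  obtain ⟨xb, hxb1, hxb⟩ := heb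
  have ha1 : 1 < a := hxa ▸ hgt xa hxa1
  have hc1 : 1 < c := hxc ▸ hgt xc hxc1
  have hb0 : 0 < b := hxb ▸ Nat.pos_of_ne_zero index_ne_zero_of_finite
  have hmiss : ∀ p : ℕ, p.Prime → p ∣ Nat.card G → ¬ (p ∣ a ∧ p ∣ c) := by
    rintro p hp hd ⟨h1, h2⟩
    obtain ⟨w, hw1, -, hw⟩ := exists_central_pel (G := G) hp hd
    rcases hN w hw1 with e | e | e <;> rw [e] at hw
    exacts [hw h1, hw (h1.trans hab), hw h2]
  have hdvdG : ∀ y : G, cs y ∣ Nat.card G := fun y => index_dvd_card _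
  have hcop : a.Coprime c := Nat.coprime_of_dvd fun p hp h1 h2 =>
    hmiss p hp (h1.trans (hxa ▸ hdvdG xa)) ⟨h1, h2⟩
  have hnac : ¬ a ∣ c := fun h => by
    have := Nat.eq_one_of_dvd_coprimes hcop dvd_rfl h
    omega
  have hnbc : ¬ b ∣ c := fun h => hnac (hab.trans h)
  have hnba : ¬ b ∣ a := fun h => hne (Nat.dvd_antisymm hab h)
  have hnca : ¬ c ∣ a := fun h => by
    have := Nat.eq_one_of_dvd_coprimes hcop h dvd_rfl
    omega
  -- classes `a` and `c` do not commute
  have hnocomm : ∀ x y : G, cs x = a → cs y = c → ¬ Commute x y := by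
    intro x y hx hy hxy
    have hy1 : y ≠ 1 := fun e => by rw [e, cs_eq_one_iff.2 (one_mem _)] at hy; omega
    have hx1 : x ≠ 1 := fun e => by rw [e, cs_eq_one_iff.2 (one_mem _)] at hx; omega
    have hall : ∀ k : G, Commute x (k * y * k⁻¹) := by
      intro k
      obtain ⟨w, hwx, hwy⟩ := simul (a := x) (b := y) (by rw [hx, hy]; exact hcop) 1 k
      rw [one_mul, inv_one, mul_one] at hwx
      rw [← hwy]
      show x * (w * y * w⁻¹) = w * y * w⁻¹ * x
      calc x * (w * y * w⁻¹) = (w * x * w⁻¹) * (w * y * w⁻¹) := by rw [hwx]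
        _ = w * (x * y) * w⁻¹ := by group
        _ = w * (y * x) * w⁻¹ := by rw [hxy.eq]
        _ = (w * y * w⁻¹) * (w * x * w⁻¹) := by group
        _ = w * y * w⁻¹ * x := by rw [hwx]
    have hle : normalClosure ({y} : Set G) ≤ centralizer ({x} : Set G) := by
      rw [normalClosure, closure_le]
      intro w hw
      obtain ⟨y', hy', hc'⟩ := Group.mem_conjugatesOfSet_iff.1 hw
      rw [Set.mem_singleton_iff] at hy'; subst hy'
      obtain ⟨k, rfl⟩ := isConj_iff.1 hc'
      exact mem_cent.2 (hall k).symm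
    rcases IsSimpleGroup.eq_bot_or_eq_top_of_normal (normalClosure ({y} : Set G)) inferInstance with h | h
    · exact hy1 (mem_bot.1 (h ▸ subset_normalClosure rfl))
    · rw [h, top_le_iff] at hle
      exact (hgt x hx1).ne' (by rw [cs, hle, index_top])
  -- minimality
  have hminb : ∀ x : G, cs x = b → MinCent x := by
    intro x hx y hy hd
    rw [hx] at hd ⊢
    rcases hN y hy with e | e | e <;> rw [e] at hd ⊢
    exacts [absurd hd hnba, absurd hd hnbc]
  have hpart : ∀ g u : G, u ∈ zpowers g → u ≠ 1 → (cs g = a → cs u = a) ∧ (cs g = c → cs u = c) := by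
    intro g u hu hu1
    have hd := cs_dvd_of_mem_zpowers hu
    refine ⟨fun e => ?_, fun e => ?_⟩ <;> rw [e] at hd <;> rcases hN u hu1 with f | f | f <;>
      rw [f] at hd ⊢
    exacts [absurd hd hnba, absurd hd hnca, absurd hd hnac, absurd hd hnbc]
  -- trivial intersection
  have hqa : ∀ q : ℕ, q.Prime → q ∣ a → ∃ y : G, PEl q y ∧ y ≠ 1 ∧ cs y = c := by
    intro q hq hd
    obtain ⟨y, hy1, hyp, hy⟩ := exists_central_pel (G := G) hq (hd.trans (hxa ▸ hdvdG xa))
    rcases hN y hy1 with e | e | e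
    · exact absurd (e ▸ hd) hy
    · exact absurd (e ▸ hd.trans hab) hy
    · exact ⟨y, hyp, hy1, e⟩
  obtain ⟨x₀, p₀, hp₀, hx₀, hx₀1, hx₀a⟩ : ∃ (x : G) (p : ℕ), p.Prime ∧ PEl p x ∧ x ≠ 1 ∧ cs x = a := by
    obtain ⟨r, hr, u, hu, hu1, ho⟩ := exists_part hxa1
    exact ⟨u, r, hr, ho, hu1, (hpart xa u hu hu1).1 hxa⟩
  have htwo : ∀ r : ℕ, ∃ q : ℕ, q.Prime ∧ q ∣ a ∧ q ≠ r := by
    intro r
    by_contra hno
    push Not at hno
    obtain ⟨q, hq, hqd⟩ := Nat.exists_prime_and_dvd (show a ≠ 1 by omega)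
    have hqr := hno q hq hqd
    subst hqr
    refine not_prime_pow hna hxa1 hq (k := a.primeFactorsList.length) ?_
    rw [hxa]
    exact Nat.eq_prime_pow_of_unique_prime_dvd (by omega) fun {r} hr hd => hno r hr hd
  have hinf : ∀ {x y : G}, cs x = a → cs y = c →
      (centralizer ({x} : Set G) ⊓ centralizer ({y} : Set G)).index = a * c := by
    intro x y hx hy
    rw [index_inf_of_coprime (show (cs x).Coprime (cs y) by rw [hx, hy]; exact hcop)]
    show cs x * cs y = _
    rw [hx, hy]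
  have hpar : ∀ {y : G} {q : ℕ}, q.Prime → PEl q y → cs y = c →
      centralizer ({x₀} : Set G) ⊓ centralizer ({y} : Set G) ≠ ⊥ → q = p₀ := by
    intro y q hq hy hyc hne'
    haveI := (nontrivial_iff_ne_bot _).2 hne'
    obtain ⟨⟨d', hd'⟩, hd'1⟩ :=
      exists_ne (1 : (centralizer ({x₀} : Set G) ⊓ centralizer ({y} : Set G) : Subgroup G))
    obtain ⟨r, hr, d, hd, hd1, hdo⟩ := exists_part (g := d') (fun e => hd'1 (Subtype.ext e))
    have hdm := (zpowers_le.2 hd') hd
    obtain ⟨hdx, hdy⟩ := mem_inf.1 hdm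
    have hdb : cs d = b := by
      rcases hN d hd1 with e | e | e
      · exact absurd (mem_cent.1 hdy) (hnocomm d y e hyc)
      · exact e
      · exact absurd (mem_cent.1 hdx).symm (hnocomm x₀ d hx₀a e)
    have hxC : x₀ ∈ centralizer ({d} : Set G) := mem_cent_comm.1 hdx
    have hyC : y ∈ centralizer ({d} : Set G) := mem_cent_comm.1 hdy
    have h1 : p₀ = r := by
      by_contra hne2
      exact hnocomm x₀ y hx₀a hyc (comm_cent hr hdo hd1 (hminb d hdb) hxC hyC
        (not_pel_of_ne hp₀ hr hne2 hx₀)).symm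
    have h2 : q = r := by
      by_contra hne2
      exact hnocomm x₀ y hx₀a hyc (comm_cent hr hdo hd1 (hminb d hdb) hyC hxC
        (not_pel_of_ne hq hr hne2 hy))
    rw [h1, h2]
  have hcard : Nat.card G = a * c := by
    obtain ⟨q, hq, hqd, hqp⟩ := htwo p₀
    obtain ⟨y, hy, -, hyc⟩ := hqa q hq hqd
    have hbot : centralizer ({x₀} : Set G) ⊓ centralizer ({y} : Set G) = ⊥ := by
      by_contra h
      exact hqp (hpar hq hy hyc h)
    rw [← hinf hx₀a hyc, hbot, index_bot]
  have hncb : ¬ c ∣ b := fun h => by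
    have hd : Nat.card G ∣ b := hcard ▸ hcop.mul_dvd_of_dvd_of_dvd hab h
    have h1 := (centralizer ({xb} : Set G)).card_mul_index
    rw [show (centralizer ({xb} : Set G)).index = b from hxb] at h1
    have h2 : Nat.card (centralizer ({xb} : Set G)) = 1 := by
      have := Nat.le_of_dvd hb0 hd
      have h3 := (Nat.card_pos (α := centralizer ({xb} : Set G)))
      nlinarith
    exact hxb1 (mem_bot.1 (card_eq_one.1 h2 ▸ mem_cent.2 (Commute.refl xb)))
  have hminc : ∀ x : G, cs x = c → MinCent x := by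
    intro x hx y hy hd
    rw [hx] at hd ⊢
    rcases hN y hy with e | e | e <;> rw [e] at hd ⊢
    exacts [absurd hd hnca, absurd hd hncb]
  -- the abelian subgroup `A`
  obtain ⟨q₀, hq₀, hq₀d, -⟩ := htwo 0
  obtain ⟨y₀, hy₀, hy₀1, hy₀c⟩ := hqa q₀ hq₀ hq₀d
  set A := centralizer ({y₀} : Set G) with hA
  have hAcard : Nat.card A = a := by
    have h1 := A.card_mul_index
    rw [show A.index = c from hy₀c, hcard] at h1
    exact Nat.eq_of_mul_eq_mul_right (by omega) h1
  have hinA : ∀ u ∈ A, u ≠ 1 → cs u = c := by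
    intro u hu hu1
    rcases hN u hu1 with e | e | e
    · exact absurd (mem_cent.1 hu) (hnocomm u y₀ e hy₀c)
    · exfalso
      have h1 := (centralizer ({u} : Set G)).card_mul_index
      rw [show (centralizer ({u} : Set G)).index = b from e, hcard] at h1
      obtain ⟨m, hm⟩ := hab
      have h2 : Nat.card (centralizer ({u} : Set G)) ∣ c := ⟨m, by
        refine Nat.eq_of_mul_eq_mul_left (show 0 < a by omega) ?_
        rw [← h1, hm]; ring⟩
      have h3 := (Subgroup.orderOf_dvd_natCard _ (mem_cent.2 (Commute.refl u))).trans h2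
      have h4 := Subgroup.orderOf_dvd_natCard A hu
      rw [hAcard] at h4
      exact hu1 (orderOf_eq_one_iff.1 (Nat.eq_one_of_dvd_coprimes hcop h4 h3))
    · exact e
  have hAab : ∀ u ∈ A, ∀ v ∈ A, Commute u v := by
    obtain ⟨q, hq, hqd, hqne⟩ := htwo q₀
    haveI := Fact.mk hq
    obtain ⟨⟨u, hu⟩, ho⟩ := exists_prime_orderOf_dvd_card' (G := A) q (by rw [hAcard]; exact hqd)
    rw [Subgroup.orderOf_mk] at ho
    have hu1 : u ≠ 1 := fun e => hq.ne_one (by rw [← ho, e, orderOf_one])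
    exact comm_of_two hq₀ hq hqne.symm hy₀ hy₀1 (hminc y₀ hy₀c) ⟨1, by rw [ho, pow_one]⟩ hu1 hu
      (by rw [hinA u hu hu1, hy₀c])
  have hCC : ∀ u ∈ A, u ≠ 1 → centralizer ({u} : Set G) = A := by
    intro u hu hu1
    refine (eq_of_le_of_card_ge (fun v hv => mem_cent.2 (hAab v hv u hu)) ?_).symm
    have h1 := (centralizer ({u} : Set G)).card_mul_index
    rw [show (centralizer ({u} : Set G)).index = c from hinA u hu hu1, hcard, ← hAcard] at h1
    exact (Nat.eq_of_mul_eq_mul_right (by omega) h1).le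
  have ht1 : t ≠ 1 := fun e => by simp [e] at ht
  by_cases h2a : 2 ∣ a
  · obtain ⟨g, hg⟩ := exists_conj_mem (H := A) Nat.prime_two
      (show ¬ 2 ∣ A.index by rw [show A.index = c from hy₀c]; exact fun h => hmiss 2 Nat.prime_two heven ⟨h2a, h⟩)
      (g := t) ⟨1, by rw [ht, pow_one]⟩
    have hmem : ∀ u ∈ centralizer ({t} : Set G), g * u * g⁻¹ ∈ A := by
      intro u hu
      rw [← hCC _ hg (fun e => ht1 (conj_eq_one_iff.1 e)), mem_cent]
      exact (Commute.conj_iff (a := u) (b := t) g).2 (mem_cent.1 hu)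
    intro u hu v hv
    exact (Commute.conj_iff (a := u) (b := v) g).1 (hAab _ (hmem u hu) _ (hmem v hv))
  · by_cases hex : ∃ s : G, PEl 2 s ∧ s ≠ 1 ∧ cs s = a
    · exfalso
      obtain ⟨s, hs, hs1, hsa⟩ := hex
      obtain ⟨z, hz, hzo⟩ := exists_two_pow hs hs1
      have hz1 : z ≠ 1 := fun e => by simp [e] at hzo
      have hza : cs z = a := (hpart s z hz hz1).1 hsa
      have hzc : z ∉ center G := fun h => hz1 (mem_bot.1 (hcen ▸ h))
      have hBcard : Nat.card (centralizer ({z} : Set G)) = c := by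
        have h1 := (centralizer ({z} : Set G)).card_mul_index
        rw [show (centralizer ({z} : Set G)).index = a from hza, hcard, mul_comm a c] at h1
        exact Nat.eq_of_mul_eq_mul_right (by omega) h1
      have hiso : Cfsg.IsIsolatedInvolution z :=
        ⟨hzo, isolated_of_factor hCC hzc (by rw [hza, hAcard]) (by rw [hAcard, hBcard]; exact hcop)⟩
      have hcore : Cfsg.pPrimeCore 2 G = ⊥ := by
        refine (IsSimpleGroup.eq_bot_or_eq_top_of_normal _ inferInstance).resolve_right fun h => ?_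
        have hodd := Cfsg.Lib.ZStarApps.odd_card_pPrimeCore (G := G)
        rw [h, card_top] at hodd
        exact Nat.not_even_iff_odd.2 hodd (even_iff_two_dvd.2 heven)
      refine hzc (Subgroup.mem_center_iff.2 fun g => ?_)
      have := Cfsg.Lib.ZStarApps.zstarProp hiso g
      rw [hcore, mem_bot] at this
      calc g * z = (z * g * z⁻¹ * g⁻¹) * (g * z) := by rw [this, one_mul]
        _ = z * g := by group
    · have hb : ∀ s : G, PEl 2 s → s ≠ 1 → cs s = b := by
        intro s hs hs1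
        rcases hN s hs1 with e | e | e
        · exact absurd ⟨s, hs, hs1, e⟩ hex
        · exact e
        · exfalso
          obtain ⟨k, hk⟩ := hs
          have hk0 : k ≠ 0 := fun e' => hs1 (orderOf_eq_one_iff.1 (by rw [hk, e', pow_zero]))
          have h1 := (centralizer ({s} : Set G)).card_mul_index
          rw [show (centralizer ({s} : Set G)).index = c from e, hcard] at h1
          have h3 : 2 ∣ Nat.card (centralizer ({s} : Set G)) := (hk ▸ dvd_pow_self 2 hk0).trans
            (Subgroup.orderOf_dvd_natCard _ (mem_cent.2 (Commute.refl s)))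
          rw [Nat.eq_of_mul_eq_mul_right (by omega) h1] at h3
          exact h2a h3
      have htp : PEl 2 t := ⟨1, by rw [ht, pow_one]⟩
      refine comm_of_abelian_sylow Nat.prime_two htp ht1 (hminb t (hb t htp ht1)) fun Q hQ =>
        two_comm hQ fun u hu v hv hu1 hv1 => ?_
      obtain ⟨k, hk⟩ := IsPGroup.iff_orderOf.1 hQ ⟨u, hu⟩
      obtain ⟨l, hl⟩ := IsPGroup.iff_orderOf.1 hQ ⟨v, hv⟩
      rw [Subgroup.orderOf_mk] at hk hl
      rw [hb u ⟨k, hk⟩ hu1, hb v ⟨l, hl⟩ hv1]

end Cfsg.Lib.ClassSize.RankThree
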