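import Cfsg.Agent.ClassSize.RankThree.Indices
import Cfsg.Agent.InvolCalc.AbelianCent.Main
import Cfsg.Agent.OddChar.PF.OddOrder
import Cfsg.Agent.OddChar.PF.KleinFour
import Cfsg.Agent.Known.SLTwo.ClassSizes
import Cfsg.Agent.Classical.SL
import Cfsg.Agent.Classical.Misc.SLTwoTori
import Cfsg.Agent.S2202

/-!
# Simple groups of conjugate type rank three
-/

set_option autoImplicit false
set_option linter.unusedSectionVars false
set_option linter.style.haveILetI false

namespace Cfsg.Lib.ClassSize.RankThree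

open Subgroup Cfsg.Lib.ClassSize
open scoped MatrixGroups

universe u

variable {G : Type u} [Group G]

theorem indexSet_eq (hc : center G = ⊥) :
    {m : ℕ | ∃ x : G, x ∉ center G ∧ m = (centralizer ({x} : Set G)).index} =
      Set.range (fun x : G => cs x) \ {1} := by
  ext m
  simp only [Set.mem_setOf_eq, Set.mem_sdiff, Set.mem_range, Set.mem_singleton_iff]
  constructor
  · rintro ⟨x, hx, rfl⟩
    exact ⟨⟨x, rfl⟩, fun e => hx (cs_eq_one_iff.1 e)⟩
  · rintro ⟨⟨x, rfl⟩, h1⟩
    exact ⟨x, fun h => h1 (cs_eq_one_iff.2 h), rfl⟩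

variable [Finite G]

theorem psl_of_three [IsSimpleGroup G] (hna : ¬ IsMulCommutative G)
    (h : Set.ncard {m : ℕ | ∃ x : G, x ∉ center G ∧ m = (centralizer ({x} : Set G)).index} = 3) :
    ∃ (m : ℕ) (F : Type) (_ : Field F) (_ : Fintype F), 2 ≤ m ∧ Fintype.card F = 2 ^ m ∧
      Nonempty (G ≃* Matrix.ProjectiveSpecialLinearGroup (Fin 2) F) := by
  haveI := Fact.mk Nat.prime_two
  have hcen := center_bot (G := G) hna
  have hncyc : ¬ IsCyclic G := fun hc =>
    hna ⟨⟨fun a b => (IsCyclic.commGroup (α := G)).mul_comm a b⟩⟩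
  have heven : 2 ∣ Nat.card G := by
    by_contra h2
    have hsol : Group.IsSolvable G := Cfsg.Agent.PF.isSolvable_of_odd G
      (Nat.not_even_iff_odd.1 fun he => h2 (even_iff_two_dvd.1 he))
    exact hna ⟨⟨IsSimpleGroup.comm_iff_isSolvable.2 hsol⟩⟩
  rw [indexSet_eq hcen] at h
  obtain ⟨a, b, c, hab, hac, hbc, hset⟩ := Set.ncard_eq_three.1 h
  have hmem : ∀ y : G, y ≠ 1 → cs y ∈ ({a, b, c} : Set ℕ) := fun y hy => hset ▸
    ⟨⟨y, rfl⟩, fun e => hy (mem_bot.1 (hcen ▸ cs_eq_one_iff.1 e))⟩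
  have hex : ∀ k ∈ ({a, b, c} : Set ℕ), ∃ x : G, x ≠ 1 ∧ cs x = k := by
    intro k hk
    rw [← hset] at hk
    obtain ⟨⟨x, hx⟩, hk1⟩ := hk
    exact ⟨x, fun e => hk1 (hx ▸ cs_eq_one_iff.2 (e ▸ one_mem _)), hx⟩
  have hcent : ∀ t : G, orderOf t = 2 → IsMulCommutative (centralizer ({t} : Set G)) := by
    intro t ht
    suffices hh : ∀ u ∈ centralizer ({t} : Set G), ∀ v ∈ centralizer ({t} : Set G), Commute u v from
      ⟨⟨fun u v => Subtype.ext (hh u u.2 v v.2).eq⟩⟩
    by_cases hanti : ∀ x y : G, x ≠ 1 → y ≠ 1 → cs x ∣ cs y → cs x = cs y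
    · exact comm_of_antichain hanti ht
    push Not at hanti
    obtain ⟨x, y, hx, hy, hd, hne⟩ := hanti
    -- the third value
    obtain ⟨z, hz, hzx, hzy⟩ : ∃ z ∈ ({a, b, c} : Set ℕ), z ≠ cs x ∧ z ≠ cs y := by
      by_contra hno
      push Not at hno
      have h1 := hno a (by simp)
      have h2 := hno b (by simp)
      have h3 := hno c (by simp)
      omega
    obtain ⟨w, hw, hwz⟩ := hex z hz
    refine comm_of_comparable hna heven (a := cs x) (b := cs y) (c := z) (fun v hv => ?_) hd hne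
      ⟨x, hx, rfl⟩ ⟨y, hy, rfl⟩ ⟨w, hw, hwz⟩ ht
    have h1 := hmem x hx
    have h2 := hmem y hy
    have h3 := hmem v hv
    simp only [Set.mem_insert_iff, Set.mem_singleton_iff] at h1 h2 h3 hz
    omega
  rcases Cfsg.Agent.S2202.result (even_iff_two_dvd.2 heven) hcent with hcyc | hnorm |
    ⟨F, _, _, A, _, _, hchar, -, ⟨e⟩⟩
  · exfalso
    obtain ⟨E, hE⟩ := Cfsg.Agent.PF.exists_klein_of_odd_order
      (fun H _ _ h => Cfsg.Agent.PF.isSolvable_of_odd H h) hncyc
    have hEp : IsPGroup 2 E := IsPGroup.iff_card.2 ⟨2, hE.card_four⟩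
    obtain ⟨P, hP⟩ := hEp.exists_le_sylow
    haveI := hcyc P
    exact hE.not_isCyclic (Subgroup.isCyclic_of_le hP)
  · exfalso
    obtain ⟨P⟩ : Nonempty (Sylow 2 G) := inferInstance
    rcases IsSimpleGroup.eq_bot_or_eq_top_of_normal _ (hnorm P) with hb | ht
    · have := P.not_dvd_index
      rw [hb, index_bot] at this
      exact this heven
    · haveI : Group.IsNilpotent (P : Subgroup G) := P.2.isNilpotent
      have hn : Group.IsNilpotent G := Group.nilpotent_of_mulEquiv
        ((MulEquiv.subgroupCongr ht).trans Subgroup.topEquiv)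
      exact hna ⟨⟨IsSimpleGroup.comm_iff_isSolvable.2 inferInstance⟩⟩
  · let f : G →* A := (MonoidHom.snd _ A).comp e.toMonoidHom
    have hker : f.ker = ⊤ := (IsSimpleGroup.eq_bot_or_eq_top_of_normal _ inferInstance).resolve_left
      fun hb => hna ⟨⟨fun u v => (MonoidHom.ker_eq_bot_iff f).1 hb
        (by rw [map_mul, map_mul, mul_comm])⟩⟩
    have hA : ∀ a : A, a = 1 := fun a => by
      have : e.symm (1, a) ∈ f.ker := hker ▸ mem_top _
      simpa [f, Subgroup.mem_prod] using this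
    let e₁ : G ≃* SL(2, F) := e.trans
      { toFun := fun p => p.1
        invFun := fun s => (s, 1)
        left_inv := fun p => Prod.ext rfl (hA p.2).symm
        right_inv := fun _ => rfl
        map_mul' := fun _ _ => rfl }
    let e₂ : G ≃* Matrix.ProjectiveSpecialLinearGroup (Fin 2) F := e₁.trans
      (MulEquiv.ofBijective Cfsg.Lib.GLTwo.prj ⟨Cfsg.Lib.GLTwo.prj_injective,
        QuotientGroup.mk'_surjective _⟩)
    obtain ⟨⟨m, hm⟩, -, hcard⟩ := FiniteField.card F 2
    refine ⟨m, F, inferInstance, inferInstance, ?_, hcard, ⟨e₂⟩⟩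
    by_contra hlt
    obtain rfl : m = 1 := by omega
    have h6 : Nat.card G = 6 := by
      rw [Nat.card_congr e₁.toEquiv, Cfsg.Lib.Classical.SLTwoTori.card_SL2, hcard]
      norm_num
    obtain ⟨x, hx1, -⟩ := hex a (by simp)
    have hd : cs x ∣ 6 := h6 ▸ index_dvd_card _
    have hne6 : cs x ≠ 6 := fun e6 => hx1 (by
      have h1 := (centralizer ({x} : Set G)).card_mul_index
      rw [show (centralizer ({x} : Set G)).index = 6 from e6, h6] at h1
      exact mem_bot.1 (card_eq_one.1 (show Nat.card (centralizer ({x} : Set G)) = 1 by omega) ▸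
        mem_cent.2 (Commute.refl x)))
    have hle : cs x ≤ 6 := Nat.le_of_dvd (by norm_num) hd
    have h1 : cs x = 1 ∨ cs x = 2 ∨ cs x = 3 := by
      generalize cs x = k at hd hne6 hle
      interval_cases k <;> omega
    rcases h1 with h1 | h1 | h1
    · exact not_prime_pow hna hx1 Nat.prime_two (k := 0) (by rw [h1, pow_zero])
    · exact not_prime_pow hna hx1 Nat.prime_two (k := 1) (by rw [h1, pow_one])
    · exact not_prime_pow hna hx1 Nat.prime_three (k := 1) (by rw [h1, pow_one])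

theorem three_of_psl {F : Type} [Field F] [Fintype F] {m : ℕ} (hm : 2 ≤ m)
    (hF : Fintype.card F = 2 ^ m) (e : G ≃* Matrix.ProjectiveSpecialLinearGroup (Fin 2) F) :
    IsSimpleGroup G ∧ ¬ IsMulCommutative G ∧
      Set.ncard {m : ℕ | ∃ x : G, x ∉ center G ∧ m = (centralizer ({x} : Set G)).index} = 3 := by
  haveI : CharP F 2 := by
    obtain ⟨p, hp⟩ := CharP.exists F
    haveI := hp
    obtain ⟨n, hpp, hn⟩ := FiniteField.card F p
    have : p ∣ 2 ^ m := hF ▸ hn ▸ dvd_pow_self p n.pos.ne'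
    obtain rfl := (Nat.prime_dvd_prime_iff_eq hpp Nat.prime_two).1 (hpp.dvd_of_dvd_pow this)
    exact hp
  have h4 : 4 ≤ Fintype.card F := by
    rw [hF]; exact (by norm_num : 4 = 2 ^ 2) ▸ Nat.pow_le_pow_right (by norm_num) hm
  haveI : IsSimpleGroup (Matrix.ProjectiveSpecialLinearGroup (Fin 2) F) :=
    Cfsg.Lib.Classical.isSimpleGroup_PSL_fin le_rfl fun _ => by rwa [Nat.card_eq_fintype_card]
  haveI : IsSimpleGroup G := e.isSimpleGroup
  have hrange : Set.range (fun x : G => cs x) = Set.range (Cfsg.Lib.GLTwo.clsSize (F := F)) := by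
    rw [← Cfsg.Lib.GLTwo.range_eq, ← e.surjective.range_comp]
    congr 1
    funext x
    show (centralizer ({x} : Set G)).index = (centralizer ({e x} : Set _)).index
    rw [← index_map_of_bijective (f := e.toMonoidHom) e.bijective]
    congr 1
    ext y
    rw [mem_map_equiv, mem_cent, mem_cent]
    constructor
    · intro hy; simpa using hy.map e.toMonoidHom
    · intro hy; simpa using hy.map e.symm.toMonoidHom
  rw [Cfsg.Lib.GLTwo.even_range h4] at hrange
  set q := Fintype.card F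
  obtain ⟨k, hk⟩ : ∃ k, q = k + 1 := ⟨q - 1, by omega⟩
  have hsq : q ^ 2 - 1 = k * (k + 2) := by
    rw [hk, show (k + 1) ^ 2 = k * (k + 2) + 1 by ring, Nat.add_sub_cancel]
  have v1 : q * (q - 1) = k * k + k := by rw [hk, Nat.add_sub_cancel]; ring
  have v2 : q ^ 2 - 1 = k * k + k + k := by rw [hsq]; ring
  have v3 : q * (q + 1) = k * k + k + (k + k + 2) := by rw [hk]; ring
  have hk3 : 3 ≤ k := by omega
  have hna : ¬ IsMulCommutative G := by
    intro hc
    obtain ⟨x, hx⟩ : ∃ x : G, cs x = q ^ 2 - 1 := by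
      have : q ^ 2 - 1 ∈ Set.range (fun x : G => cs x) := by rw [hrange]; simp
      exact this
    have : cs x = 1 := cs_eq_one_iff.2 (Subgroup.mem_center_iff.2 fun y => hc.1.1 y x)
    omega
  refine ⟨inferInstance, hna, ?_⟩
  rw [indexSet_eq (center_bot (G := G) hna), hrange]
  rw [Set.ncard_eq_three]
  refine ⟨q * (q - 1), q ^ 2 - 1, q * (q + 1), by omega, by omega, by omega, ?_⟩
  ext n
  simp only [Set.mem_sdiff, Set.mem_insert_iff, Set.mem_singleton_iff]
  omega

end Cfsg.Lib.ClassSize.RankThree
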